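import Groth.Agent.SmoothDim.Basic
import Mathlib.AlgebraicGeometry.Morphisms.Smooth
import Mathlib.AlgebraicGeometry.Morphisms.FiniteType
import Mathlib.AlgebraicGeometry.Noetherian
import Mathlib.AlgebraicGeometry.Stalk

/-!
# Points of a smooth curve
-/

set_option autoImplicit false
set_option linter.style.haveILetI false
set_option backward.isDefEq.respectTransparency false
set_option backward.isDefEq.respectTransparency.types false

universe u

open CategoryTheory CategoryTheory.Limits AlgebraicGeometry TopologicalSpace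

namespace Groth.Agent.CurveExc51

theorem ringKrullDim_stalk_le_one {k : Type u} [Field k] {X : Scheme.{u}} (f : X ⟶ Spec (CommRingCat.of k))
    [SmoothOfRelativeDimension 1 f] (x : X) : ringKrullDim (X.presheaf.stalk x) ≤ 1 := by
  obtain ⟨U, hU, V, hV, hxV, e, hf⟩ := SmoothOfRelativeDimension.exists_isStandardSmoothOfRelativeDimension
    (n := 1) (f := f) x
  have hUtop : U = ⊤ := top_unique fun y _ =>
    (@Subsingleton.elim (Spec (CommRingCat.of k)) inferInstance y (f x)).symm ▸ e hxV
  have hfield : IsField Γ(Spec (CommRingCat.of k), U) := by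
    rw [hUtop]
    exact (Scheme.ΓSpecIso (CommRingCat.of k)).commRingCatIsoToRingEquiv.toMulEquiv.isField (Field.toIsField k)
  let := hfield.toField
  let : Algebra Γ(Spec (CommRingCat.of k), U) Γ(X, V) := (f.appLE U V e).hom.toAlgebra
  haveI : Algebra.IsStandardSmoothOfRelativeDimension 1 Γ(Spec (CommRingCat.of k), U) Γ(X, V) := hf
  haveI : Nonempty V := ⟨⟨x, hxV⟩⟩
  haveI : Nontrivial Γ(X, V) := inferInstance
  have hdim : ringKrullDim Γ(X, V) = 1 := by
    simpa using SmoothDim.ringKrullDim_eq Γ(Spec (CommRingCat.of k), U) Γ(X, V) 1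
  letI := TopCat.Presheaf.algebra_section_stalk X.presheaf (⟨x, hxV⟩ : V)
  haveI : IsLocalization.AtPrime (X.presheaf.stalk x) (hV.primeIdealOf ⟨x, hxV⟩).asIdeal :=
    hV.isLocalization_stalk ⟨x, hxV⟩
  rw [← hdim, IsLocalization.AtPrime.ringKrullDim_eq_height (hV.primeIdealOf ⟨x, hxV⟩).asIdeal]
  exact Ideal.height_le_ringKrullDim_of_ne_top (hV.primeIdealOf ⟨x, hxV⟩).2.ne_top

theorem specializes_eq_of_curve {k : Type u} [Field k] {X : Scheme.{u}} (f : X ⟶ Spec (CommRingCat.of k))
    [SmoothOfRelativeDimension 1 f] [IrreducibleSpace X] {z w : X} (hz : z ≠ genericPoint X) (h : z ⤳ w) :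
    w = z := by
  by_contra hne
  obtain ⟨p₀, hp₀⟩ : genericPoint X ∈ Set.range (X.fromSpecStalk w).base := by
    rw [Scheme.range_fromSpecStalk]; exact genericPoint_specializes w
  obtain ⟨p₁, hp₁⟩ : z ∈ Set.range (X.fromSpecStalk w).base := by
    rw [Scheme.range_fromSpecStalk]; exact h
  obtain ⟨p₂, hp₂⟩ : w ∈ Set.range (X.fromSpecStalk w).base := by
    rw [Scheme.range_fromSpecStalk]; exact specializes_rfl
  have hind := (X.fromSpecStalk w).isEmbedding.isInducing
  have h01 : p₀.asIdeal < p₁.asIdeal := lt_of_le_of_ne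
    ((PrimeSpectrum.le_iff_specializes p₀ p₁).2 (hind.specializes_iff.1 (by rw [hp₀, hp₁]; exact genericPoint_specializes z)))
    fun he => hz (by rw [← hp₁, ← hp₀, PrimeSpectrum.ext he])
  have h12 : p₁.asIdeal < p₂.asIdeal := lt_of_le_of_ne
    ((PrimeSpectrum.le_iff_specializes p₁ p₂).2 (hind.specializes_iff.1 (by rw [hp₁, hp₂]; exact h)))
    fun he => hne (by rw [← hp₂, ← hp₁, PrimeSpectrum.ext he])
  have hd := ringKrullDim_stalk_le_one f w
  let s : LTSeries (PrimeSpectrum (X.presheaf.stalk w)) :=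
    { length := 2
      toFun := ![p₀, p₁, p₂]
      step := fun i => by
        fin_cases i
        · exact h01
        · exact h12 }
  have h2 : (2 : WithBot ℕ∞) ≤ ringKrullDim (X.presheaf.stalk w) := Order.LTSeries.length_le_krullDim s
  exact absurd (h2.trans hd) (by decide)

/-- The complement of a nonempty open of a Noetherian irreducible curve is a finite set of closed points. -/
theorem finite_compl {k : Type u} [Field k] {X : Scheme.{u}} (f : X ⟶ Spec (CommRingCat.of k))
    [SmoothOfRelativeDimension 1 f] [IrreducibleSpace X] [NoetherianSpace X] {Z : Set X} (hZ : IsClosed Z)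
    (hne : Z ≠ Set.univ) : Z.Finite ∧ ∀ z ∈ Z, IsClosed ({z} : Set X) := by
  have hgen : genericPoint X ∉ Z := fun h => hne (Set.univ_subset_iff.1 fun y _ =>
    (genericPoint_specializes y).mem_closed hZ h)
  have hcl : ∀ z ∈ Z, IsClosed ({z} : Set X) := fun z hz => by
    refine closure_subset_iff_isClosed.1 fun w hw => ?_
    exact specializes_eq_of_curve f (fun he => hgen (he ▸ hz)) (specializes_iff_mem_closure.2 hw)
  refine ⟨?_, hcl⟩
  obtain ⟨S, hSfin, hScl, hSirr, rfl⟩ := NoetherianSpace.exists_finite_set_isClosed_irreducible hZ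
  refine hSfin.sUnion fun t ht => Set.Subsingleton.finite ?_
  obtain ⟨g, hg⟩ := QuasiSober.sober (hSirr t ht) (hScl t ht)
  have hgt : g ∈ t := hg.mem
  intro a ha b hb
  have key : ∀ c ∈ t, c = g := fun c hc =>
    specializes_eq_of_curve f (fun he => hgen (he ▸ Set.mem_sUnion_of_mem hgt ht)) (hg.specializes hc)
  exact (key a ha).trans (key b hb).symm

end Groth.Agent.CurveExc51
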